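import Cfsg.Agent.J4Eleven.Data.Mats0
import Cfsg.Agent.J4Eleven.Data.Mats1
import Cfsg.Agent.J4Eleven.Data.Mats2
import Cfsg.Agent.J4Eleven.Data.Mats3
import Cfsg.Agent.J4Eleven.Data.Mats4
import Cfsg.Agent.J4Eleven.Data.Mats5
import Cfsg.Agent.J4Eleven.Data.Mats6
import Cfsg.Agent.J4Eleven.Data.Mats7
import Cfsg.Agent.J4Eleven.Data.Mats8

/-!
The table of the matrices and how they arise.
-/

set_option autoImplicit false
set_option maxRecDepth 8000

namespace Cfsg.Lib.J4Eleven

open Cfsg.Lib.J4Cert

def emTree0 : Tr (List ℕ) := .node (.leaf em0) (.leaf em512)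

def emTree1 : Tr (List ℕ) := .node emTree0 (.leaf em256)

def emTree2 : Tr (List ℕ) := .node (.leaf em128) (.leaf em384)

def emTree3 : Tr (List ℕ) := .node emTree1 emTree2

def emTree4 : Tr (List ℕ) := .node (.leaf em64) (.leaf em320)

def emTree5 : Tr (List ℕ) := .node (.leaf em192) (.leaf em448)

def emTree6 : Tr (List ℕ) := .node emTree4 emTree5

def emTree7 : Tr (List ℕ) := .node emTree3 emTree6

def emTree8 : Tr (List ℕ) := .node (.leaf em32) (.leaf em544)

def emTree9 : Tr (List ℕ) := .node emTree8 (.leaf em288)

def emTree10 : Tr (List ℕ) := .node (.leaf em160) (.leaf em416)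

def emTree11 : Tr (List ℕ) := .node emTree9 emTree10

def emTree12 : Tr (List ℕ) := .node (.leaf em96) (.leaf em352)

def emTree13 : Tr (List ℕ) := .node (.leaf em224) (.leaf em480)

def emTree14 : Tr (List ℕ) := .node emTree12 emTree13

def emTree15 : Tr (List ℕ) := .node emTree11 emTree14

def emTree16 : Tr (List ℕ) := .node emTree7 emTree15

def emTree17 : Tr (List ℕ) := .node (.leaf em16) (.leaf em528)

def emTree18 : Tr (List ℕ) := .node emTree17 (.leaf em272)

def emTree19 : Tr (List ℕ) := .node (.leaf em144) (.leaf em400)

def emTree20 : Tr (List ℕ) := .node emTree18 emTree19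

def emTree21 : Tr (List ℕ) := .node (.leaf em80) (.leaf em336)

def emTree22 : Tr (List ℕ) := .node (.leaf em208) (.leaf em464)

def emTree23 : Tr (List ℕ) := .node emTree21 emTree22

def emTree24 : Tr (List ℕ) := .node emTree20 emTree23

def emTree25 : Tr (List ℕ) := .node (.leaf em48) (.leaf em304)

def emTree26 : Tr (List ℕ) := .node (.leaf em176) (.leaf em432)

def emTree27 : Tr (List ℕ) := .node emTree25 emTree26

def emTree28 : Tr (List ℕ) := .node (.leaf em112) (.leaf em368)

def emTree29 : Tr (List ℕ) := .node (.leaf em240) (.leaf em496)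

def emTree30 : Tr (List ℕ) := .node emTree28 emTree29

def emTree31 : Tr (List ℕ) := .node emTree27 emTree30

def emTree32 : Tr (List ℕ) := .node emTree24 emTree31

def emTree33 : Tr (List ℕ) := .node emTree16 emTree32

def emTree34 : Tr (List ℕ) := .node (.leaf em8) (.leaf em520)

def emTree35 : Tr (List ℕ) := .node emTree34 (.leaf em264)

def emTree36 : Tr (List ℕ) := .node (.leaf em136) (.leaf em392)

def emTree37 : Tr (List ℕ) := .node emTree35 emTree36

def emTree38 : Tr (List ℕ) := .node (.leaf em72) (.leaf em328)

def emTree39 : Tr (List ℕ) := .node (.leaf em200) (.leaf em456)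

def emTree40 : Tr (List ℕ) := .node emTree38 emTree39

def emTree41 : Tr (List ℕ) := .node emTree37 emTree40

def emTree42 : Tr (List ℕ) := .node (.leaf em40) (.leaf em296)

def emTree43 : Tr (List ℕ) := .node (.leaf em168) (.leaf em424)

def emTree44 : Tr (List ℕ) := .node emTree42 emTree43

def emTree45 : Tr (List ℕ) := .node (.leaf em104) (.leaf em360)

def emTree46 : Tr (List ℕ) := .node (.leaf em232) (.leaf em488)

def emTree47 : Tr (List ℕ) := .node emTree45 emTree46

def emTree48 : Tr (List ℕ) := .node emTree44 emTree47

def emTree49 : Tr (List ℕ) := .node emTree41 emTree48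

def emTree50 : Tr (List ℕ) := .node (.leaf em24) (.leaf em536)

def emTree51 : Tr (List ℕ) := .node emTree50 (.leaf em280)

def emTree52 : Tr (List ℕ) := .node (.leaf em152) (.leaf em408)

def emTree53 : Tr (List ℕ) := .node emTree51 emTree52

def emTree54 : Tr (List ℕ) := .node (.leaf em88) (.leaf em344)

def emTree55 : Tr (List ℕ) := .node (.leaf em216) (.leaf em472)

def emTree56 : Tr (List ℕ) := .node emTree54 emTree55

def emTree57 : Tr (List ℕ) := .node emTree53 emTree56

def emTree58 : Tr (List ℕ) := .node (.leaf em56) (.leaf em312)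

def emTree59 : Tr (List ℕ) := .node (.leaf em184) (.leaf em440)

def emTree60 : Tr (List ℕ) := .node emTree58 emTree59

def emTree61 : Tr (List ℕ) := .node (.leaf em120) (.leaf em376)

def emTree62 : Tr (List ℕ) := .node (.leaf em248) (.leaf em504)

def emTree63 : Tr (List ℕ) := .node emTree61 emTree62

def emTree64 : Tr (List ℕ) := .node emTree60 emTree63

def emTree65 : Tr (List ℕ) := .node emTree57 emTree64

def emTree66 : Tr (List ℕ) := .node emTree49 emTree65

def emTree67 : Tr (List ℕ) := .node emTree33 emTree66

def emTree68 : Tr (List ℕ) := .node (.leaf em4) (.leaf em516)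

def emTree69 : Tr (List ℕ) := .node emTree68 (.leaf em260)

def emTree70 : Tr (List ℕ) := .node (.leaf em132) (.leaf em388)

def emTree71 : Tr (List ℕ) := .node emTree69 emTree70

def emTree72 : Tr (List ℕ) := .node (.leaf em68) (.leaf em324)

def emTree73 : Tr (List ℕ) := .node (.leaf em196) (.leaf em452)

def emTree74 : Tr (List ℕ) := .node emTree72 emTree73

def emTree75 : Tr (List ℕ) := .node emTree71 emTree74

def emTree76 : Tr (List ℕ) := .node (.leaf em36) (.leaf em292)

def emTree77 : Tr (List ℕ) := .node (.leaf em164) (.leaf em420)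

def emTree78 : Tr (List ℕ) := .node emTree76 emTree77

def emTree79 : Tr (List ℕ) := .node (.leaf em100) (.leaf em356)

def emTree80 : Tr (List ℕ) := .node (.leaf em228) (.leaf em484)

def emTree81 : Tr (List ℕ) := .node emTree79 emTree80

def emTree82 : Tr (List ℕ) := .node emTree78 emTree81

def emTree83 : Tr (List ℕ) := .node emTree75 emTree82

def emTree84 : Tr (List ℕ) := .node (.leaf em20) (.leaf em532)

def emTree85 : Tr (List ℕ) := .node emTree84 (.leaf em276)

def emTree86 : Tr (List ℕ) := .node (.leaf em148) (.leaf em404)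

def emTree87 : Tr (List ℕ) := .node emTree85 emTree86

def emTree88 : Tr (List ℕ) := .node (.leaf em84) (.leaf em340)

def emTree89 : Tr (List ℕ) := .node (.leaf em212) (.leaf em468)

def emTree90 : Tr (List ℕ) := .node emTree88 emTree89

def emTree91 : Tr (List ℕ) := .node emTree87 emTree90

def emTree92 : Tr (List ℕ) := .node (.leaf em52) (.leaf em308)

def emTree93 : Tr (List ℕ) := .node (.leaf em180) (.leaf em436)

def emTree94 : Tr (List ℕ) := .node emTree92 emTree93

def emTree95 : Tr (List ℕ) := .node (.leaf em116) (.leaf em372)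

def emTree96 : Tr (List ℕ) := .node (.leaf em244) (.leaf em500)

def emTree97 : Tr (List ℕ) := .node emTree95 emTree96

def emTree98 : Tr (List ℕ) := .node emTree94 emTree97

def emTree99 : Tr (List ℕ) := .node emTree91 emTree98

def emTree100 : Tr (List ℕ) := .node emTree83 emTree99

def emTree101 : Tr (List ℕ) := .node (.leaf em12) (.leaf em524)

def emTree102 : Tr (List ℕ) := .node emTree101 (.leaf em268)

def emTree103 : Tr (List ℕ) := .node (.leaf em140) (.leaf em396)

def emTree104 : Tr (List ℕ) := .node emTree102 emTree103

def emTree105 : Tr (List ℕ) := .node (.leaf em76) (.leaf em332)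

def emTree106 : Tr (List ℕ) := .node (.leaf em204) (.leaf em460)

def emTree107 : Tr (List ℕ) := .node emTree105 emTree106

def emTree108 : Tr (List ℕ) := .node emTree104 emTree107

def emTree109 : Tr (List ℕ) := .node (.leaf em44) (.leaf em300)

def emTree110 : Tr (List ℕ) := .node (.leaf em172) (.leaf em428)

def emTree111 : Tr (List ℕ) := .node emTree109 emTree110

def emTree112 : Tr (List ℕ) := .node (.leaf em108) (.leaf em364)

def emTree113 : Tr (List ℕ) := .node (.leaf em236) (.leaf em492)

def emTree114 : Tr (List ℕ) := .node emTree112 emTree113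

def emTree115 : Tr (List ℕ) := .node emTree111 emTree114

def emTree116 : Tr (List ℕ) := .node emTree108 emTree115

def emTree117 : Tr (List ℕ) := .node (.leaf em28) (.leaf em540)

def emTree118 : Tr (List ℕ) := .node emTree117 (.leaf em284)

def emTree119 : Tr (List ℕ) := .node (.leaf em156) (.leaf em412)

def emTree120 : Tr (List ℕ) := .node emTree118 emTree119

def emTree121 : Tr (List ℕ) := .node (.leaf em92) (.leaf em348)

def emTree122 : Tr (List ℕ) := .node (.leaf em220) (.leaf em476)

def emTree123 : Tr (List ℕ) := .node emTree121 emTree122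

def emTree124 : Tr (List ℕ) := .node emTree120 emTree123

def emTree125 : Tr (List ℕ) := .node (.leaf em60) (.leaf em316)

def emTree126 : Tr (List ℕ) := .node (.leaf em188) (.leaf em444)

def emTree127 : Tr (List ℕ) := .node emTree125 emTree126

def emTree128 : Tr (List ℕ) := .node (.leaf em124) (.leaf em380)

def emTree129 : Tr (List ℕ) := .node (.leaf em252) (.leaf em508)

def emTree130 : Tr (List ℕ) := .node emTree128 emTree129

def emTree131 : Tr (List ℕ) := .node emTree127 emTree130

def emTree132 : Tr (List ℕ) := .node emTree124 emTree131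

def emTree133 : Tr (List ℕ) := .node emTree116 emTree132

def emTree134 : Tr (List ℕ) := .node emTree100 emTree133

def emTree135 : Tr (List ℕ) := .node emTree67 emTree134

def emTree136 : Tr (List ℕ) := .node (.leaf em2) (.leaf em514)

def emTree137 : Tr (List ℕ) := .node emTree136 (.leaf em258)

def emTree138 : Tr (List ℕ) := .node (.leaf em130) (.leaf em386)

def emTree139 : Tr (List ℕ) := .node emTree137 emTree138

def emTree140 : Tr (List ℕ) := .node (.leaf em66) (.leaf em322)

def emTree141 : Tr (List ℕ) := .node (.leaf em194) (.leaf em450)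

def emTree142 : Tr (List ℕ) := .node emTree140 emTree141

def emTree143 : Tr (List ℕ) := .node emTree139 emTree142

def emTree144 : Tr (List ℕ) := .node (.leaf em34) (.leaf em546)

def emTree145 : Tr (List ℕ) := .node emTree144 (.leaf em290)

def emTree146 : Tr (List ℕ) := .node (.leaf em162) (.leaf em418)

def emTree147 : Tr (List ℕ) := .node emTree145 emTree146

def emTree148 : Tr (List ℕ) := .node (.leaf em98) (.leaf em354)

def emTree149 : Tr (List ℕ) := .node (.leaf em226) (.leaf em482)

def emTree150 : Tr (List ℕ) := .node emTree148 emTree149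

def emTree151 : Tr (List ℕ) := .node emTree147 emTree150

def emTree152 : Tr (List ℕ) := .node emTree143 emTree151

def emTree153 : Tr (List ℕ) := .node (.leaf em18) (.leaf em530)

def emTree154 : Tr (List ℕ) := .node emTree153 (.leaf em274)

def emTree155 : Tr (List ℕ) := .node (.leaf em146) (.leaf em402)

def emTree156 : Tr (List ℕ) := .node emTree154 emTree155

def emTree157 : Tr (List ℕ) := .node (.leaf em82) (.leaf em338)

def emTree158 : Tr (List ℕ) := .node (.leaf em210) (.leaf em466)

def emTree159 : Tr (List ℕ) := .node emTree157 emTree158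

def emTree160 : Tr (List ℕ) := .node emTree156 emTree159

def emTree161 : Tr (List ℕ) := .node (.leaf em50) (.leaf em306)

def emTree162 : Tr (List ℕ) := .node (.leaf em178) (.leaf em434)

def emTree163 : Tr (List ℕ) := .node emTree161 emTree162

def emTree164 : Tr (List ℕ) := .node (.leaf em114) (.leaf em370)

def emTree165 : Tr (List ℕ) := .node (.leaf em242) (.leaf em498)

def emTree166 : Tr (List ℕ) := .node emTree164 emTree165

def emTree167 : Tr (List ℕ) := .node emTree163 emTree166

def emTree168 : Tr (List ℕ) := .node emTree160 emTree167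

def emTree169 : Tr (List ℕ) := .node emTree152 emTree168

def emTree170 : Tr (List ℕ) := .node (.leaf em10) (.leaf em522)

def emTree171 : Tr (List ℕ) := .node emTree170 (.leaf em266)

def emTree172 : Tr (List ℕ) := .node (.leaf em138) (.leaf em394)

def emTree173 : Tr (List ℕ) := .node emTree171 emTree172

def emTree174 : Tr (List ℕ) := .node (.leaf em74) (.leaf em330)

def emTree175 : Tr (List ℕ) := .node (.leaf em202) (.leaf em458)

def emTree176 : Tr (List ℕ) := .node emTree174 emTree175

def emTree177 : Tr (List ℕ) := .node emTree173 emTree176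

def emTree178 : Tr (List ℕ) := .node (.leaf em42) (.leaf em298)

def emTree179 : Tr (List ℕ) := .node (.leaf em170) (.leaf em426)

def emTree180 : Tr (List ℕ) := .node emTree178 emTree179

def emTree181 : Tr (List ℕ) := .node (.leaf em106) (.leaf em362)

def emTree182 : Tr (List ℕ) := .node (.leaf em234) (.leaf em490)

def emTree183 : Tr (List ℕ) := .node emTree181 emTree182

def emTree184 : Tr (List ℕ) := .node emTree180 emTree183

def emTree185 : Tr (List ℕ) := .node emTree177 emTree184

def emTree186 : Tr (List ℕ) := .node (.leaf em26) (.leaf em538)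

def emTree187 : Tr (List ℕ) := .node emTree186 (.leaf em282)

def emTree188 : Tr (List ℕ) := .node (.leaf em154) (.leaf em410)

def emTree189 : Tr (List ℕ) := .node emTree187 emTree188

def emTree190 : Tr (List ℕ) := .node (.leaf em90) (.leaf em346)

def emTree191 : Tr (List ℕ) := .node (.leaf em218) (.leaf em474)

def emTree192 : Tr (List ℕ) := .node emTree190 emTree191

def emTree193 : Tr (List ℕ) := .node emTree189 emTree192

def emTree194 : Tr (List ℕ) := .node (.leaf em58) (.leaf em314)

def emTree195 : Tr (List ℕ) := .node (.leaf em186) (.leaf em442)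

def emTree196 : Tr (List ℕ) := .node emTree194 emTree195

def emTree197 : Tr (List ℕ) := .node (.leaf em122) (.leaf em378)

def emTree198 : Tr (List ℕ) := .node (.leaf em250) (.leaf em506)

def emTree199 : Tr (List ℕ) := .node emTree197 emTree198

def emTree200 : Tr (List ℕ) := .node emTree196 emTree199

def emTree201 : Tr (List ℕ) := .node emTree193 emTree200

def emTree202 : Tr (List ℕ) := .node emTree185 emTree201

def emTree203 : Tr (List ℕ) := .node emTree169 emTree202

def emTree204 : Tr (List ℕ) := .node (.leaf em6) (.leaf em518)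

def emTree205 : Tr (List ℕ) := .node emTree204 (.leaf em262)

def emTree206 : Tr (List ℕ) := .node (.leaf em134) (.leaf em390)

def emTree207 : Tr (List ℕ) := .node emTree205 emTree206

def emTree208 : Tr (List ℕ) := .node (.leaf em70) (.leaf em326)

def emTree209 : Tr (List ℕ) := .node (.leaf em198) (.leaf em454)

def emTree210 : Tr (List ℕ) := .node emTree208 emTree209

def emTree211 : Tr (List ℕ) := .node emTree207 emTree210

def emTree212 : Tr (List ℕ) := .node (.leaf em38) (.leaf em294)

def emTree213 : Tr (List ℕ) := .node (.leaf em166) (.leaf em422)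

def emTree214 : Tr (List ℕ) := .node emTree212 emTree213

def emTree215 : Tr (List ℕ) := .node (.leaf em102) (.leaf em358)

def emTree216 : Tr (List ℕ) := .node (.leaf em230) (.leaf em486)

def emTree217 : Tr (List ℕ) := .node emTree215 emTree216

def emTree218 : Tr (List ℕ) := .node emTree214 emTree217

def emTree219 : Tr (List ℕ) := .node emTree211 emTree218

def emTree220 : Tr (List ℕ) := .node (.leaf em22) (.leaf em534)

def emTree221 : Tr (List ℕ) := .node emTree220 (.leaf em278)

def emTree222 : Tr (List ℕ) := .node (.leaf em150) (.leaf em406)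

def emTree223 : Tr (List ℕ) := .node emTree221 emTree222

def emTree224 : Tr (List ℕ) := .node (.leaf em86) (.leaf em342)

def emTree225 : Tr (List ℕ) := .node (.leaf em214) (.leaf em470)

def emTree226 : Tr (List ℕ) := .node emTree224 emTree225

def emTree227 : Tr (List ℕ) := .node emTree223 emTree226

def emTree228 : Tr (List ℕ) := .node (.leaf em54) (.leaf em310)

def emTree229 : Tr (List ℕ) := .node (.leaf em182) (.leaf em438)

def emTree230 : Tr (List ℕ) := .node emTree228 emTree229

def emTree231 : Tr (List ℕ) := .node (.leaf em118) (.leaf em374)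

def emTree232 : Tr (List ℕ) := .node (.leaf em246) (.leaf em502)

def emTree233 : Tr (List ℕ) := .node emTree231 emTree232

def emTree234 : Tr (List ℕ) := .node emTree230 emTree233

def emTree235 : Tr (List ℕ) := .node emTree227 emTree234

def emTree236 : Tr (List ℕ) := .node emTree219 emTree235

def emTree237 : Tr (List ℕ) := .node (.leaf em14) (.leaf em526)

def emTree238 : Tr (List ℕ) := .node emTree237 (.leaf em270)

def emTree239 : Tr (List ℕ) := .node (.leaf em142) (.leaf em398)

def emTree240 : Tr (List ℕ) := .node emTree238 emTree239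

def emTree241 : Tr (List ℕ) := .node (.leaf em78) (.leaf em334)

def emTree242 : Tr (List ℕ) := .node (.leaf em206) (.leaf em462)

def emTree243 : Tr (List ℕ) := .node emTree241 emTree242

def emTree244 : Tr (List ℕ) := .node emTree240 emTree243

def emTree245 : Tr (List ℕ) := .node (.leaf em46) (.leaf em302)

def emTree246 : Tr (List ℕ) := .node (.leaf em174) (.leaf em430)

def emTree247 : Tr (List ℕ) := .node emTree245 emTree246

def emTree248 : Tr (List ℕ) := .node (.leaf em110) (.leaf em366)

def emTree249 : Tr (List ℕ) := .node (.leaf em238) (.leaf em494)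

def emTree250 : Tr (List ℕ) := .node emTree248 emTree249

def emTree251 : Tr (List ℕ) := .node emTree247 emTree250

def emTree252 : Tr (List ℕ) := .node emTree244 emTree251

def emTree253 : Tr (List ℕ) := .node (.leaf em30) (.leaf em542)

def emTree254 : Tr (List ℕ) := .node emTree253 (.leaf em286)

def emTree255 : Tr (List ℕ) := .node (.leaf em158) (.leaf em414)

def emTree256 : Tr (List ℕ) := .node emTree254 emTree255

def emTree257 : Tr (List ℕ) := .node (.leaf em94) (.leaf em350)

def emTree258 : Tr (List ℕ) := .node (.leaf em222) (.leaf em478)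

def emTree259 : Tr (List ℕ) := .node emTree257 emTree258

def emTree260 : Tr (List ℕ) := .node emTree256 emTree259

def emTree261 : Tr (List ℕ) := .node (.leaf em62) (.leaf em318)

def emTree262 : Tr (List ℕ) := .node (.leaf em190) (.leaf em446)

def emTree263 : Tr (List ℕ) := .node emTree261 emTree262

def emTree264 : Tr (List ℕ) := .node (.leaf em126) (.leaf em382)

def emTree265 : Tr (List ℕ) := .node (.leaf em254) (.leaf em510)

def emTree266 : Tr (List ℕ) := .node emTree264 emTree265

def emTree267 : Tr (List ℕ) := .node emTree263 emTree266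

def emTree268 : Tr (List ℕ) := .node emTree260 emTree267

def emTree269 : Tr (List ℕ) := .node emTree252 emTree268

def emTree270 : Tr (List ℕ) := .node emTree236 emTree269

def emTree271 : Tr (List ℕ) := .node emTree203 emTree270

def emTree272 : Tr (List ℕ) := .node emTree135 emTree271

def emTree273 : Tr (List ℕ) := .node (.leaf em1) (.leaf em513)

def emTree274 : Tr (List ℕ) := .node emTree273 (.leaf em257)

def emTree275 : Tr (List ℕ) := .node (.leaf em129) (.leaf em385)

def emTree276 : Tr (List ℕ) := .node emTree274 emTree275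

def emTree277 : Tr (List ℕ) := .node (.leaf em65) (.leaf em321)

def emTree278 : Tr (List ℕ) := .node (.leaf em193) (.leaf em449)

def emTree279 : Tr (List ℕ) := .node emTree277 emTree278

def emTree280 : Tr (List ℕ) := .node emTree276 emTree279

def emTree281 : Tr (List ℕ) := .node (.leaf em33) (.leaf em545)

def emTree282 : Tr (List ℕ) := .node emTree281 (.leaf em289)

def emTree283 : Tr (List ℕ) := .node (.leaf em161) (.leaf em417)

def emTree284 : Tr (List ℕ) := .node emTree282 emTree283

def emTree285 : Tr (List ℕ) := .node (.leaf em97) (.leaf em353)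

def emTree286 : Tr (List ℕ) := .node (.leaf em225) (.leaf em481)

def emTree287 : Tr (List ℕ) := .node emTree285 emTree286

def emTree288 : Tr (List ℕ) := .node emTree284 emTree287

def emTree289 : Tr (List ℕ) := .node emTree280 emTree288

def emTree290 : Tr (List ℕ) := .node (.leaf em17) (.leaf em529)

def emTree291 : Tr (List ℕ) := .node emTree290 (.leaf em273)

def emTree292 : Tr (List ℕ) := .node (.leaf em145) (.leaf em401)

def emTree293 : Tr (List ℕ) := .node emTree291 emTree292

def emTree294 : Tr (List ℕ) := .node (.leaf em81) (.leaf em337)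

def emTree295 : Tr (List ℕ) := .node (.leaf em209) (.leaf em465)

def emTree296 : Tr (List ℕ) := .node emTree294 emTree295

def emTree297 : Tr (List ℕ) := .node emTree293 emTree296

def emTree298 : Tr (List ℕ) := .node (.leaf em49) (.leaf em305)

def emTree299 : Tr (List ℕ) := .node (.leaf em177) (.leaf em433)

def emTree300 : Tr (List ℕ) := .node emTree298 emTree299

def emTree301 : Tr (List ℕ) := .node (.leaf em113) (.leaf em369)

def emTree302 : Tr (List ℕ) := .node (.leaf em241) (.leaf em497)

def emTree303 : Tr (List ℕ) := .node emTree301 emTree302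

def emTree304 : Tr (List ℕ) := .node emTree300 emTree303

def emTree305 : Tr (List ℕ) := .node emTree297 emTree304

def emTree306 : Tr (List ℕ) := .node emTree289 emTree305

def emTree307 : Tr (List ℕ) := .node (.leaf em9) (.leaf em521)

def emTree308 : Tr (List ℕ) := .node emTree307 (.leaf em265)

def emTree309 : Tr (List ℕ) := .node (.leaf em137) (.leaf em393)

def emTree310 : Tr (List ℕ) := .node emTree308 emTree309

def emTree311 : Tr (List ℕ) := .node (.leaf em73) (.leaf em329)

def emTree312 : Tr (List ℕ) := .node (.leaf em201) (.leaf em457)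

def emTree313 : Tr (List ℕ) := .node emTree311 emTree312

def emTree314 : Tr (List ℕ) := .node emTree310 emTree313

def emTree315 : Tr (List ℕ) := .node (.leaf em41) (.leaf em297)

def emTree316 : Tr (List ℕ) := .node (.leaf em169) (.leaf em425)

def emTree317 : Tr (List ℕ) := .node emTree315 emTree316

def emTree318 : Tr (List ℕ) := .node (.leaf em105) (.leaf em361)

def emTree319 : Tr (List ℕ) := .node (.leaf em233) (.leaf em489)

def emTree320 : Tr (List ℕ) := .node emTree318 emTree319

def emTree321 : Tr (List ℕ) := .node emTree317 emTree320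

def emTree322 : Tr (List ℕ) := .node emTree314 emTree321

def emTree323 : Tr (List ℕ) := .node (.leaf em25) (.leaf em537)

def emTree324 : Tr (List ℕ) := .node emTree323 (.leaf em281)

def emTree325 : Tr (List ℕ) := .node (.leaf em153) (.leaf em409)

def emTree326 : Tr (List ℕ) := .node emTree324 emTree325

def emTree327 : Tr (List ℕ) := .node (.leaf em89) (.leaf em345)

def emTree328 : Tr (List ℕ) := .node (.leaf em217) (.leaf em473)

def emTree329 : Tr (List ℕ) := .node emTree327 emTree328

def emTree330 : Tr (List ℕ) := .node emTree326 emTree329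

def emTree331 : Tr (List ℕ) := .node (.leaf em57) (.leaf em313)

def emTree332 : Tr (List ℕ) := .node (.leaf em185) (.leaf em441)

def emTree333 : Tr (List ℕ) := .node emTree331 emTree332

def emTree334 : Tr (List ℕ) := .node (.leaf em121) (.leaf em377)

def emTree335 : Tr (List ℕ) := .node (.leaf em249) (.leaf em505)

def emTree336 : Tr (List ℕ) := .node emTree334 emTree335

def emTree337 : Tr (List ℕ) := .node emTree333 emTree336

def emTree338 : Tr (List ℕ) := .node emTree330 emTree337

def emTree339 : Tr (List ℕ) := .node emTree322 emTree338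

def emTree340 : Tr (List ℕ) := .node emTree306 emTree339

def emTree341 : Tr (List ℕ) := .node (.leaf em5) (.leaf em517)

def emTree342 : Tr (List ℕ) := .node emTree341 (.leaf em261)

def emTree343 : Tr (List ℕ) := .node (.leaf em133) (.leaf em389)

def emTree344 : Tr (List ℕ) := .node emTree342 emTree343

def emTree345 : Tr (List ℕ) := .node (.leaf em69) (.leaf em325)

def emTree346 : Tr (List ℕ) := .node (.leaf em197) (.leaf em453)

def emTree347 : Tr (List ℕ) := .node emTree345 emTree346

def emTree348 : Tr (List ℕ) := .node emTree344 emTree347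

def emTree349 : Tr (List ℕ) := .node (.leaf em37) (.leaf em293)

def emTree350 : Tr (List ℕ) := .node (.leaf em165) (.leaf em421)

def emTree351 : Tr (List ℕ) := .node emTree349 emTree350

def emTree352 : Tr (List ℕ) := .node (.leaf em101) (.leaf em357)

def emTree353 : Tr (List ℕ) := .node (.leaf em229) (.leaf em485)

def emTree354 : Tr (List ℕ) := .node emTree352 emTree353

def emTree355 : Tr (List ℕ) := .node emTree351 emTree354

def emTree356 : Tr (List ℕ) := .node emTree348 emTree355

def emTree357 : Tr (List ℕ) := .node (.leaf em21) (.leaf em533)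

def emTree358 : Tr (List ℕ) := .node emTree357 (.leaf em277)

def emTree359 : Tr (List ℕ) := .node (.leaf em149) (.leaf em405)

def emTree360 : Tr (List ℕ) := .node emTree358 emTree359

def emTree361 : Tr (List ℕ) := .node (.leaf em85) (.leaf em341)

def emTree362 : Tr (List ℕ) := .node (.leaf em213) (.leaf em469)

def emTree363 : Tr (List ℕ) := .node emTree361 emTree362

def emTree364 : Tr (List ℕ) := .node emTree360 emTree363

def emTree365 : Tr (List ℕ) := .node (.leaf em53) (.leaf em309)

def emTree366 : Tr (List ℕ) := .node (.leaf em181) (.leaf em437)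

def emTree367 : Tr (List ℕ) := .node emTree365 emTree366

def emTree368 : Tr (List ℕ) := .node (.leaf em117) (.leaf em373)

def emTree369 : Tr (List ℕ) := .node (.leaf em245) (.leaf em501)

def emTree370 : Tr (List ℕ) := .node emTree368 emTree369

def emTree371 : Tr (List ℕ) := .node emTree367 emTree370

def emTree372 : Tr (List ℕ) := .node emTree364 emTree371

def emTree373 : Tr (List ℕ) := .node emTree356 emTree372

def emTree374 : Tr (List ℕ) := .node (.leaf em13) (.leaf em525)

def emTree375 : Tr (List ℕ) := .node emTree374 (.leaf em269)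

def emTree376 : Tr (List ℕ) := .node (.leaf em141) (.leaf em397)

def emTree377 : Tr (List ℕ) := .node emTree375 emTree376

def emTree378 : Tr (List ℕ) := .node (.leaf em77) (.leaf em333)

def emTree379 : Tr (List ℕ) := .node (.leaf em205) (.leaf em461)

def emTree380 : Tr (List ℕ) := .node emTree378 emTree379

def emTree381 : Tr (List ℕ) := .node emTree377 emTree380

def emTree382 : Tr (List ℕ) := .node (.leaf em45) (.leaf em301)

def emTree383 : Tr (List ℕ) := .node (.leaf em173) (.leaf em429)

def emTree384 : Tr (List ℕ) := .node emTree382 emTree383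

def emTree385 : Tr (List ℕ) := .node (.leaf em109) (.leaf em365)

def emTree386 : Tr (List ℕ) := .node (.leaf em237) (.leaf em493)

def emTree387 : Tr (List ℕ) := .node emTree385 emTree386

def emTree388 : Tr (List ℕ) := .node emTree384 emTree387

def emTree389 : Tr (List ℕ) := .node emTree381 emTree388

def emTree390 : Tr (List ℕ) := .node (.leaf em29) (.leaf em541)

def emTree391 : Tr (List ℕ) := .node emTree390 (.leaf em285)

def emTree392 : Tr (List ℕ) := .node (.leaf em157) (.leaf em413)

def emTree393 : Tr (List ℕ) := .node emTree391 emTree392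

def emTree394 : Tr (List ℕ) := .node (.leaf em93) (.leaf em349)

def emTree395 : Tr (List ℕ) := .node (.leaf em221) (.leaf em477)

def emTree396 : Tr (List ℕ) := .node emTree394 emTree395

def emTree397 : Tr (List ℕ) := .node emTree393 emTree396

def emTree398 : Tr (List ℕ) := .node (.leaf em61) (.leaf em317)

def emTree399 : Tr (List ℕ) := .node (.leaf em189) (.leaf em445)

def emTree400 : Tr (List ℕ) := .node emTree398 emTree399

def emTree401 : Tr (List ℕ) := .node (.leaf em125) (.leaf em381)

def emTree402 : Tr (List ℕ) := .node (.leaf em253) (.leaf em509)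

def emTree403 : Tr (List ℕ) := .node emTree401 emTree402

def emTree404 : Tr (List ℕ) := .node emTree400 emTree403

def emTree405 : Tr (List ℕ) := .node emTree397 emTree404

def emTree406 : Tr (List ℕ) := .node emTree389 emTree405

def emTree407 : Tr (List ℕ) := .node emTree373 emTree406

def emTree408 : Tr (List ℕ) := .node emTree340 emTree407

def emTree409 : Tr (List ℕ) := .node (.leaf em3) (.leaf em515)

def emTree410 : Tr (List ℕ) := .node emTree409 (.leaf em259)

def emTree411 : Tr (List ℕ) := .node (.leaf em131) (.leaf em387)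

def emTree412 : Tr (List ℕ) := .node emTree410 emTree411

def emTree413 : Tr (List ℕ) := .node (.leaf em67) (.leaf em323)

def emTree414 : Tr (List ℕ) := .node (.leaf em195) (.leaf em451)

def emTree415 : Tr (List ℕ) := .node emTree413 emTree414

def emTree416 : Tr (List ℕ) := .node emTree412 emTree415

def emTree417 : Tr (List ℕ) := .node (.leaf em35) (.leaf em547)

def emTree418 : Tr (List ℕ) := .node emTree417 (.leaf em291)

def emTree419 : Tr (List ℕ) := .node (.leaf em163) (.leaf em419)

def emTree420 : Tr (List ℕ) := .node emTree418 emTree419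

def emTree421 : Tr (List ℕ) := .node (.leaf em99) (.leaf em355)

def emTree422 : Tr (List ℕ) := .node (.leaf em227) (.leaf em483)

def emTree423 : Tr (List ℕ) := .node emTree421 emTree422

def emTree424 : Tr (List ℕ) := .node emTree420 emTree423

def emTree425 : Tr (List ℕ) := .node emTree416 emTree424

def emTree426 : Tr (List ℕ) := .node (.leaf em19) (.leaf em531)

def emTree427 : Tr (List ℕ) := .node emTree426 (.leaf em275)

def emTree428 : Tr (List ℕ) := .node (.leaf em147) (.leaf em403)

def emTree429 : Tr (List ℕ) := .node emTree427 emTree428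

def emTree430 : Tr (List ℕ) := .node (.leaf em83) (.leaf em339)

def emTree431 : Tr (List ℕ) := .node (.leaf em211) (.leaf em467)

def emTree432 : Tr (List ℕ) := .node emTree430 emTree431

def emTree433 : Tr (List ℕ) := .node emTree429 emTree432

def emTree434 : Tr (List ℕ) := .node (.leaf em51) (.leaf em307)

def emTree435 : Tr (List ℕ) := .node (.leaf em179) (.leaf em435)

def emTree436 : Tr (List ℕ) := .node emTree434 emTree435

def emTree437 : Tr (List ℕ) := .node (.leaf em115) (.leaf em371)

def emTree438 : Tr (List ℕ) := .node (.leaf em243) (.leaf em499)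

def emTree439 : Tr (List ℕ) := .node emTree437 emTree438

def emTree440 : Tr (List ℕ) := .node emTree436 emTree439

def emTree441 : Tr (List ℕ) := .node emTree433 emTree440

def emTree442 : Tr (List ℕ) := .node emTree425 emTree441

def emTree443 : Tr (List ℕ) := .node (.leaf em11) (.leaf em523)

def emTree444 : Tr (List ℕ) := .node emTree443 (.leaf em267)

def emTree445 : Tr (List ℕ) := .node (.leaf em139) (.leaf em395)

def emTree446 : Tr (List ℕ) := .node emTree444 emTree445

def emTree447 : Tr (List ℕ) := .node (.leaf em75) (.leaf em331)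

def emTree448 : Tr (List ℕ) := .node (.leaf em203) (.leaf em459)

def emTree449 : Tr (List ℕ) := .node emTree447 emTree448

def emTree450 : Tr (List ℕ) := .node emTree446 emTree449

def emTree451 : Tr (List ℕ) := .node (.leaf em43) (.leaf em299)

def emTree452 : Tr (List ℕ) := .node (.leaf em171) (.leaf em427)

def emTree453 : Tr (List ℕ) := .node emTree451 emTree452

def emTree454 : Tr (List ℕ) := .node (.leaf em107) (.leaf em363)

def emTree455 : Tr (List ℕ) := .node (.leaf em235) (.leaf em491)

def emTree456 : Tr (List ℕ) := .node emTree454 emTree455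

def emTree457 : Tr (List ℕ) := .node emTree453 emTree456

def emTree458 : Tr (List ℕ) := .node emTree450 emTree457

def emTree459 : Tr (List ℕ) := .node (.leaf em27) (.leaf em539)

def emTree460 : Tr (List ℕ) := .node emTree459 (.leaf em283)

def emTree461 : Tr (List ℕ) := .node (.leaf em155) (.leaf em411)

def emTree462 : Tr (List ℕ) := .node emTree460 emTree461

def emTree463 : Tr (List ℕ) := .node (.leaf em91) (.leaf em347)

def emTree464 : Tr (List ℕ) := .node (.leaf em219) (.leaf em475)

def emTree465 : Tr (List ℕ) := .node emTree463 emTree464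

def emTree466 : Tr (List ℕ) := .node emTree462 emTree465

def emTree467 : Tr (List ℕ) := .node (.leaf em59) (.leaf em315)

def emTree468 : Tr (List ℕ) := .node (.leaf em187) (.leaf em443)

def emTree469 : Tr (List ℕ) := .node emTree467 emTree468

def emTree470 : Tr (List ℕ) := .node (.leaf em123) (.leaf em379)

def emTree471 : Tr (List ℕ) := .node (.leaf em251) (.leaf em507)

def emTree472 : Tr (List ℕ) := .node emTree470 emTree471

def emTree473 : Tr (List ℕ) := .node emTree469 emTree472

def emTree474 : Tr (List ℕ) := .node emTree466 emTree473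

def emTree475 : Tr (List ℕ) := .node emTree458 emTree474

def emTree476 : Tr (List ℕ) := .node emTree442 emTree475

def emTree477 : Tr (List ℕ) := .node (.leaf em7) (.leaf em519)

def emTree478 : Tr (List ℕ) := .node emTree477 (.leaf em263)

def emTree479 : Tr (List ℕ) := .node (.leaf em135) (.leaf em391)

def emTree480 : Tr (List ℕ) := .node emTree478 emTree479

def emTree481 : Tr (List ℕ) := .node (.leaf em71) (.leaf em327)

def emTree482 : Tr (List ℕ) := .node (.leaf em199) (.leaf em455)

def emTree483 : Tr (List ℕ) := .node emTree481 emTree482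

def emTree484 : Tr (List ℕ) := .node emTree480 emTree483

def emTree485 : Tr (List ℕ) := .node (.leaf em39) (.leaf em295)

def emTree486 : Tr (List ℕ) := .node (.leaf em167) (.leaf em423)

def emTree487 : Tr (List ℕ) := .node emTree485 emTree486

def emTree488 : Tr (List ℕ) := .node (.leaf em103) (.leaf em359)

def emTree489 : Tr (List ℕ) := .node (.leaf em231) (.leaf em487)

def emTree490 : Tr (List ℕ) := .node emTree488 emTree489

def emTree491 : Tr (List ℕ) := .node emTree487 emTree490

def emTree492 : Tr (List ℕ) := .node emTree484 emTree491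

def emTree493 : Tr (List ℕ) := .node (.leaf em23) (.leaf em535)

def emTree494 : Tr (List ℕ) := .node emTree493 (.leaf em279)

def emTree495 : Tr (List ℕ) := .node (.leaf em151) (.leaf em407)

def emTree496 : Tr (List ℕ) := .node emTree494 emTree495

def emTree497 : Tr (List ℕ) := .node (.leaf em87) (.leaf em343)

def emTree498 : Tr (List ℕ) := .node (.leaf em215) (.leaf em471)

def emTree499 : Tr (List ℕ) := .node emTree497 emTree498

def emTree500 : Tr (List ℕ) := .node emTree496 emTree499

def emTree501 : Tr (List ℕ) := .node (.leaf em55) (.leaf em311)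

def emTree502 : Tr (List ℕ) := .node (.leaf em183) (.leaf em439)

def emTree503 : Tr (List ℕ) := .node emTree501 emTree502

def emTree504 : Tr (List ℕ) := .node (.leaf em119) (.leaf em375)

def emTree505 : Tr (List ℕ) := .node (.leaf em247) (.leaf em503)

def emTree506 : Tr (List ℕ) := .node emTree504 emTree505

def emTree507 : Tr (List ℕ) := .node emTree503 emTree506

def emTree508 : Tr (List ℕ) := .node emTree500 emTree507

def emTree509 : Tr (List ℕ) := .node emTree492 emTree508

def emTree510 : Tr (List ℕ) := .node (.leaf em15) (.leaf em527)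

def emTree511 : Tr (List ℕ) := .node emTree510 (.leaf em271)

def emTree512 : Tr (List ℕ) := .node (.leaf em143) (.leaf em399)

def emTree513 : Tr (List ℕ) := .node emTree511 emTree512

def emTree514 : Tr (List ℕ) := .node (.leaf em79) (.leaf em335)

def emTree515 : Tr (List ℕ) := .node (.leaf em207) (.leaf em463)

def emTree516 : Tr (List ℕ) := .node emTree514 emTree515

def emTree517 : Tr (List ℕ) := .node emTree513 emTree516

def emTree518 : Tr (List ℕ) := .node (.leaf em47) (.leaf em303)

def emTree519 : Tr (List ℕ) := .node (.leaf em175) (.leaf em431)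

def emTree520 : Tr (List ℕ) := .node emTree518 emTree519

def emTree521 : Tr (List ℕ) := .node (.leaf em111) (.leaf em367)

def emTree522 : Tr (List ℕ) := .node (.leaf em239) (.leaf em495)

def emTree523 : Tr (List ℕ) := .node emTree521 emTree522

def emTree524 : Tr (List ℕ) := .node emTree520 emTree523

def emTree525 : Tr (List ℕ) := .node emTree517 emTree524

def emTree526 : Tr (List ℕ) := .node (.leaf em31) (.leaf em543)

def emTree527 : Tr (List ℕ) := .node emTree526 (.leaf em287)

def emTree528 : Tr (List ℕ) := .node (.leaf em159) (.leaf em415)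

def emTree529 : Tr (List ℕ) := .node emTree527 emTree528

def emTree530 : Tr (List ℕ) := .node (.leaf em95) (.leaf em351)

def emTree531 : Tr (List ℕ) := .node (.leaf em223) (.leaf em479)

def emTree532 : Tr (List ℕ) := .node emTree530 emTree531

def emTree533 : Tr (List ℕ) := .node emTree529 emTree532

def emTree534 : Tr (List ℕ) := .node (.leaf em63) (.leaf em319)

def emTree535 : Tr (List ℕ) := .node (.leaf em191) (.leaf em447)

def emTree536 : Tr (List ℕ) := .node emTree534 emTree535

def emTree537 : Tr (List ℕ) := .node (.leaf em127) (.leaf em383)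

def emTree538 : Tr (List ℕ) := .node (.leaf em255) (.leaf em511)

def emTree539 : Tr (List ℕ) := .node emTree537 emTree538

def emTree540 : Tr (List ℕ) := .node emTree536 emTree539

def emTree541 : Tr (List ℕ) := .node emTree533 emTree540

def emTree542 : Tr (List ℕ) := .node emTree525 emTree541

def emTree543 : Tr (List ℕ) := .node emTree509 emTree542

def emTree544 : Tr (List ℕ) := .node emTree476 emTree543

def emTree545 : Tr (List ℕ) := .node emTree408 emTree544

def emTree546 : Tr (List ℕ) := .node emTree272 emTree545

/-- The table. -/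
def emTab : Tr (List ℕ) := emTree546

/-- The products. -/
def emProg0 : List (ℕ × ℕ) := [(1, 0), (2, 0), (4, 5), (4, 6), (5, 5), (4, 7), (2, 3), (4, 9), (8, 10), (5, 6), (7, 12), (11, 14), (4, 4), (8, 8), (6, 6), (15, 15), (5, 7), (1, 3), (5, 9), (10, 0), (13, 6), (4, 11), (9, 8), (12, 19), (5, 16), (21, 0), (4, 3), (8, 6), (4, 23), (7, 6), (13, 8), (13, 7), (17, 6), (14, 19), (20, 6), (9, 6), (16, 16), (16, 25), (8, 18), (11, 13), (9, 7), (5, 11), (30, 0), (37, 26), (5, 10), (18, 27), (6, 13), (5, 3), (8, 40), (6, 17), (28, 16), (5, 23), (47, 48), (56, 19), (41, 27), (8, 33), (38, 8), (22, 18), (5, 25), (7, 18), (39, 16), (5, 30), (28, 32), (20, 7), (8, 13), (5, 21), (8, 24), (43, 12), (11, 5), (13, 13), (35, 55), (33, 27), (16, 29), (17, 17), (4, 21), (22, 8), (9, 26), (17, 67), (72, 37), (24, 7)]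

/-- The products. -/
def emProg1 : List (ℕ × ℕ) := [(41, 22), (36, 36), (38, 3), (9, 44), (57, 58), (13, 27), (42, 6), (11, 25), (4, 29), (6, 26), (79, 9), (51, 0), (18, 31), (7, 34), (11, 17), (98, 8), (20, 18), (7, 45), (7, 11), (6, 7), (31, 28), (17, 24), (7, 22), (71, 71), (107, 11), (5, 32), (18, 8), (6, 60), (9, 27), (112, 75), (113, 20), (114, 73), (115, 80), (116, 24), (117, 8), (118, 29), (119, 42), (120, 24), (121, 64), (122, 23), (123, 6), (124, 84), (125, 66), (126, 35), (127, 31), (128, 74), (129, 31), (130, 85), (131, 24), (132, 46), (133, 53), (134, 34), (135, 28), (136, 11), (137, 29), (138, 81), (139, 13), (140, 18), (141, 32), (142, 38), (143, 31), (144, 8), (145, 74), (146, 35), (147, 26), (148, 20), (149, 13), (150, 36), (151, 69), (152, 53), (153, 59), (154, 54), (155, 3), (156, 17), (157, 45), (158, 77), (159, 65), (160, 39), (161, 83), (162, 86)]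

/-- The products. -/
def emProg2 : List (ℕ × ℕ) := [(163, 26), (164, 87), (165, 13), (57, 82), (167, 58), (46, 18), (11, 8), (0, 22), (171, 2), (88, 75), (173, 49), (174, 49), (175, 89), (176, 49), (177, 90), (178, 91), (179, 7), (180, 5), (181, 92), (182, 93), (183, 25), (184, 13), (185, 76), (186, 31), (187, 77), (188, 11), (189, 76), (190, 50), (191, 25), (192, 59), (193, 78), (194, 60), (195, 43), (196, 94), (197, 95), (198, 9), (199, 61), (200, 50), (201, 32), (202, 25), (203, 44), (204, 52), (205, 29), (206, 96), (207, 97), (208, 13), (209, 21), (210, 39), (211, 62), (212, 8), (213, 99), (214, 21), (215, 20), (216, 17), (217, 44), (218, 17), (219, 30), (220, 18), (221, 63), (222, 64), (223, 30), (224, 22), (225, 100), (226, 34), (227, 65), (228, 101), (229, 53), (230, 102), (231, 6), (232, 95), (233, 34), (234, 11), (235, 103), (236, 66), (237, 24), (238, 5), (239, 43), (240, 48), (241, 7), (242, 33)]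

/-- The products. -/
def emProg3 : List (ℕ × ℕ) := [(243, 11), (244, 50), (245, 29), (246, 20), (247, 80), (248, 50), (249, 14), (250, 22), (251, 81), (252, 20), (253, 3), (254, 61), (255, 24), (256, 39), (257, 3), (258, 33), (259, 68), (260, 104), (261, 46), (262, 105), (263, 20), (264, 42), (265, 8), (266, 69), (267, 63), (268, 70), (269, 68), (270, 51), (271, 103), (272, 62), (273, 13), (274, 30), (275, 6), (276, 22), (277, 13), (278, 9), (279, 17), (280, 3), (281, 106), (282, 105), (283, 34), (284, 16), (285, 21), (286, 108), (287, 24), (288, 12), (289, 108), (290, 2), (88, 82), (292, 49), (293, 22), (294, 50), (295, 11), (296, 83), (297, 13), (298, 3), (299, 0), (300, 18), (301, 54), (302, 43), (303, 109), (304, 110), (305, 22), (306, 7), (307, 20), (308, 55), (309, 60), (310, 79), (311, 66), (312, 111), (313, 9), (314, 73), (315, 18), (316, 3), (317, 111), (318, 54), (319, 32), (320, 106), (321, 93), (322, 13)]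

/-- The products. -/
def emProg4 : List (ℕ × ℕ) := [(323, 29), (324, 35), (325, 91), (326, 109), (327, 100), (328, 25), (329, 6), (330, 63), (331, 3), (332, 13), (333, 61), (334, 64), (335, 3), (336, 31), (337, 11), (338, 20), (339, 104), (340, 3), (341, 18), (342, 24), (343, 20), (344, 46), (345, 34), (346, 73), (347, 1), (348, 166), (168, 16), (350, 19), (351, 15), (352, 89), (353, 17), (354, 26), (355, 22), (356, 52), (357, 11), (358, 169), (359, 96), (360, 68), (361, 76), (362, 13), (363, 40), (364, 170), (365, 34), (366, 29), (367, 87), (368, 68), (369, 28), (370, 21), (371, 11), (372, 22), (373, 6), (374, 61), (375, 20), (376, 23), (377, 8), (378, 101), (379, 52), (380, 16), (381, 23), (382, 31), (383, 42), (384, 59), (385, 12), (386, 0), (387, 44), (388, 36), (389, 54), (390, 78), (391, 9), (392, 28), (393, 84), (394, 25), (395, 10), (396, 62), (397, 36), (398, 42), (399, 51), (400, 16), (401, 11), (402, 70)]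

/-- The products. -/
def emProg5 : List (ℕ × ℕ) := [(403, 86), (404, 35), (405, 170), (406, 28), (407, 40), (408, 3), (409, 70), (410, 17), (411, 7), (412, 9), (413, 166), (168, 25), (415, 5), (416, 47), (417, 37), (418, 49), (419, 0), (420, 94), (421, 45), (422, 17), (423, 9), (424, 5), (425, 169), (426, 17), (427, 52), (428, 40), (429, 32), (430, 6), (431, 34), (432, 63), (433, 32), (434, 70), (435, 99), (436, 78), (437, 33), (438, 26), (439, 110), (440, 9), (441, 18), (442, 69), (443, 67), (444, 24), (445, 29), (446, 25), (447, 39), (448, 52), (449, 92), (450, 22), (451, 24), (452, 13), (453, 10), (454, 9), (455, 20), (456, 8), (457, 22), (458, 97), (459, 9), (460, 29), (461, 85), (462, 45), (463, 30), (464, 7), (465, 62), (466, 17), (467, 22), (468, 51), (469, 18), (470, 102), (471, 7), (472, 13), (473, 65), (474, 22), (475, 90), (476, 72), (477, 4), (172, 172), (479, 479), (480, 480), (479, 481), (291, 291)]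

/-- The products. -/
def emProg6 : List (ℕ × ℕ) := [(483, 483), (484, 484), (483, 485), (291, 172), (486, 482), (487, 488), (489, 489), (172, 172), (491, 491), (492, 492), (172, 493), (414, 494), (291, 291), (496, 496), (497, 497), (478, 498), (349, 349), (349, 495), (495, 349), (495, 495), (500, 349), (500, 495), (501, 349), (501, 495), (502, 349), (502, 495), (503, 349), (504, 349), (504, 495), (505, 349), (505, 495), (506, 349), (506, 495), (508, 349), (508, 495), (509, 349), (509, 495), (510, 349), (510, 495), (511, 349), (511, 495), (512, 349), (512, 495), (513, 349), (513, 495), (515, 349), (515, 495), (516, 349), (516, 495), (518, 349), (518, 495), (519, 349), (519, 495), (521, 349), (521, 495), (522, 349), (522, 495), (523, 349), (523, 495), (524, 349), (524, 495), (349, 349), (545, 545), (546, 546)]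

/-- The indices of the elements of the subgroup of order 48. -/
def emK : List ℕ := [547, 349, 495, 500, 501, 502, 503, 504, 505, 506, 507, 508, 509, 510, 511, 512, 513, 514, 515, 516, 517, 518, 519, 520, 521, 522, 523, 524, 525, 526, 527, 528, 529, 530, 531, 532, 533, 534, 535, 536, 537, 538, 539, 540, 541, 542, 543, 544]

/-- The elements of GL(2,3), in the same order. -/
def emGL : List (ℕ × ℕ × ℕ × ℕ) := [(1, 0, 0, 1), (0, 1, 1, 1), (0, 1, 2, 2), (1, 1, 1, 2), (2, 2, 2, 0), (1, 1, 2, 1), (2, 2, 1, 0), (1, 2, 2, 0), (2, 0, 1, 2), (2, 1, 0, 2), (1, 0, 0, 2), (1, 2, 1, 0), (2, 0, 2, 1), (2, 1, 0, 1), (2, 0, 0, 2), (1, 2, 0, 2), (0, 2, 2, 0), (0, 2, 1, 2), (1, 0, 2, 2), (2, 1, 1, 1), (2, 0, 0, 1), (1, 2, 0, 1), (0, 2, 1, 0), (0, 2, 2, 1), (1, 0, 1, 1), (2, 1, 2, 2), (0, 2, 2, 2), (0, 2, 1, 1), (2, 0, 2, 2), (1, 2, 1, 1), (2, 2, 0, 2), (1, 1, 0, 2), (0, 1, 2, 1), (0, 1, 1, 0), (1, 0, 1, 2), (2, 1, 2, 0), (2, 0, 1, 1), (1, 2, 2, 2), (2, 2, 0, 1), (1, 1, 0, 1), (0, 1, 1, 2), (0, 1, 2, 0), (1, 0, 2, 1), (2, 1, 1, 0), (2, 2, 2, 1), (1, 1, 1, 0), (2, 2, 1, 2), (1, 1,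 2, 0)]

/-- Right multiplication by the two generators. -/
def emStep : List (ℕ × ℕ) := [(1, 2), (3, 4), (5, 6), (7, 8), (9, 10), (11, 12), (13, 0), (14, 15), (16, 17), (18, 19), (2, 1), (20, 21), (22, 23), (24, 25), (26, 27), (28, 29), (30, 31), (4, 3), (32, 33), (34, 35), (27, 26), (36, 37), (38, 39), (6, 5), (40, 41), (42, 43), (44, 45), (46, 47), (23, 22), (8, 7), (25, 24), (37, 36), (45, 44), (39, 38), (41, 40), (10, 9), (17, 16), (12, 11), (19, 18), (29, 28), (47, 46), (31, 30), (33, 32), (0, 13), (43, 42), (21, 20), (35, 34), (15, 14)]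

/-- The tree of the elements. -/
def emPar : List (ℕ × ℕ) := [(0, 0), (0, 0), (0, 1), (1, 0), (1, 1), (2, 0), (2, 1), (3, 0), (3, 1), (4, 0), (4, 1), (5, 0), (5, 1), (6, 0), (7, 0), (7, 1), (8, 0), (8, 1), (9, 0), (9, 1), (11, 0), (11, 1), (12, 0), (12, 1), (13, 0), (13, 1), (14, 0), (14, 1), (15, 0), (15, 1), (16, 0), (16, 1), (18, 0), (18, 1), (19, 0), (19, 1), (21, 0), (21, 1), (22, 0), (22, 1), (24, 0), (24, 1), (25, 0), (25, 1), (26, 0), (26, 1), (27, 0), (27, 1)]

end Cfsg.Lib.J4Eleven
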